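import Mathlib
import Cfsg.Agent.H697.Alm.Defs
import Cfsg.Agent.H970.CycOne
import Cfsg.Agent.S4695
import Cfsg.Agent.S4696
import Cfsg.Agent.S4652
import Cfsg.Agent.S0919
import Cfsg.Agent.S0936

/-!
# S4790, T21: cyclic Sylow `p`-subgroups (helper736)
-/

set_option autoImplicit false

open Subgroup Cfsg

namespace Cfsg.Agent.H736.S4790

universe u

section stab

/-- the principal block is invariant under automorphisms -/
theorem mem_principal_of_equiv {C : Type*} [Group C] {M : Ideal AlgInt} (φ : C ≃* C) {θ θ' : IrrCharacter C}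
    (h : θ ∈ principalBlock M C) (h' : ∀ c : C, (θ' : C → ℂ) (φ c) = (θ : C → ℂ) c) :
    θ' ∈ principalBlock M C := by
  have hidx : ∀ c : C, (centralizer ({φ c} : Set C)).index = (centralizer ({c} : Set C)).index := by
    intro c
    have h1 : (centralizer ({c} : Set C)).map φ.toMonoidHom = centralizer ({φ c} : Set C) := by
      ext x
      rw [mem_map, mem_centralizer_singleton_iff]
      constructor
      · rintro ⟨y, hy, rfl⟩
        rw [mem_centralizer_singleton_iff] at hy
        change φ y * φ c = φ c * φ y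
        rw [← map_mul, hy, map_mul]
      · intro hx
        refine ⟨φ.symm x, ?_, φ.apply_symm_apply x⟩
        rw [mem_centralizer_singleton_iff]
        apply φ.injective
        rw [map_mul, map_mul, φ.apply_symm_apply, hx]
    rw [← h1]
    exact Subgroup.index_map_equiv _ φ
  intro g
  obtain ⟨c, rfl⟩ := φ.surjective g
  have h1 := h c
  have h2 : centralChar (θ' : C → ℂ) (φ c) = centralChar (θ : C → ℂ) c := by
    unfold centralChar
    rw [hidx, h', ← h' 1, map_one]
  have h3 : centralChar (fun _ : C => (1 : ℂ)) (φ c) = centralChar (fun _ : C => (1 : ℂ)) c := by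
    unfold centralChar
    rw [hidx]
  rw [h2, h3]
  exact h1

end stab

section fus

variable {G : Type u} [Group G] [Finite G] {p : ℕ} [hp : Fact p.Prime]

/-- the number of classes of elements of order `p` -/
theorem card_le_mul (P : Sylow p G) (hc : IsCyclic (P : Subgroup G)) (hd : p ∣ Nat.card G) :
    p - 1 ≤ (centralizer ((P : Subgroup G) : Set G)).relIndex (normalizer ((P : Subgroup G) : Set G)) *
      Nat.card {c : ConjClasses G // ∃ g : G, ConjClasses.mk g = c ∧ orderOf g = p} := by
  classical
  have := Fintype.ofFinite G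
  set N := normalizer ((P : Subgroup G) : Set G) with hN
  set e := (centralizer ((P : Subgroup G) : Set G)).relIndex N with he
  set R := {c : ConjClasses G // ∃ g : G, ConjClasses.mk g = c ∧ orderOf g = p} with hR
  let Ω : Finset (P : Subgroup G) := Finset.univ.filter fun x => orderOf x = p
  have hcard : Ω.card = p - 1 := by
    have h1 : p ∣ Fintype.card (P : Subgroup G) := by
      rw [← Nat.card_eq_fintype_card]
      have := P.pow_dvd_card_of_pow_dvd_card (n := 1) (by rwa [pow_one])
      rwa [pow_one] at this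
    have h2 := IsCyclic.card_orderOf_eq_totient (α := (P : Subgroup G)) h1
    rw [Nat.totient_prime hp.out] at h2
    exact h2
  let f : ↥(P : Subgroup G) → ConjClasses G := fun x => ConjClasses.mk (x : G)
  have hfib : ∀ c ∈ Ω.image f, (Ω.filter fun x => f x = c).card ≤ e := by
    intro c hcc
    obtain ⟨x, -, rfl⟩ := Finset.mem_image.1 hcc
    let _ : MulAction ↥N G := MulAction.compHom G ((MulAut.conj : G →* MulAut G).comp N.subtype)
    have hsm : ∀ (n : ↥N) (g : G), n • g = (n : G) * g * (n : G)⁻¹ := fun _ _ => rfl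
    have h1 : (MulAction.orbit ↥N (x : G)).ncard ≤ e := by
      have h2 : (centralizer ((P : Subgroup G) : Set G)).subgroupOf N ≤ MulAction.stabilizer ↥N (x : G) := by
        intro n hn
        rw [MulAction.mem_stabilizer_iff, hsm, mul_inv_eq_iff_eq_mul]
        exact ((mem_subgroupOf.1 hn) x x.2).symm
      rw [he, relIndex, ← MulAction.index_stabilizer ↥N (x : G)]
      exact Subgroup.index_antitone h2
    refine le_trans ?_ h1
    rw [← Set.ncard_coe_finset]
    refine Set.ncard_le_ncard_of_injOn (fun y : (P : Subgroup G) => (y : G)) ?_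
      (fun a _ b _ h => Subtype.ext h) (Set.toFinite _)
    intro y hy
    rw [Finset.mem_coe, Finset.mem_filter] at hy
    have h3 : IsConj (x : G) (y : G) := ConjClasses.mk_eq_mk_iff_isConj.1 hy.2.symm
    obtain ⟨g, hg⟩ := isConj_iff.1 h3
    have : IsMulCommutative (P : Subgroup G) := ⟨⟨IsCyclic.commGroup.mul_comm⟩⟩
    have h4 : (g⁻¹)⁻¹ * (x : G) * g⁻¹ = y := by rw [inv_inv, hg]
    obtain ⟨n, hn, hn2⟩ := P.conj_eq_normalizer_conj_of_mem (x : G) g⁻¹ x.2 (by rw [h4]; exact y.2)
    refine ⟨⟨n⁻¹, inv_mem hn⟩, ?_⟩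
    change n⁻¹ * (x : G) * (n⁻¹)⁻¹ = y
    rw [inv_inv, ← hn2, h4]
  have h5 := Finset.card_le_mul_card_image Ω e hfib
  rw [hcard] at h5
  refine h5.trans (Nat.mul_le_mul_left _ ?_)
  have hfin : Finite R := inferInstance
  have h6 : (Ω.image f).card = Nat.card (Ω.image f) := (Nat.card_eq_fintype_card.trans (Fintype.card_coe _)).symm
  rw [h6]
  refine Nat.card_le_card_of_injective
    (fun c : Ω.image f => (⟨c.1, by
      obtain ⟨x, hx, hx2⟩ := Finset.mem_image.1 c.2
      refine ⟨(x : G), hx2, ?_⟩
      rw [Subgroup.orderOf_coe]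
      exact (Finset.mem_filter.1 hx).2⟩ : R)) ?_
  intro a b hab
  exact Subtype.ext (congrArg (fun z : R => z.1) hab)

end fus

section main

open Cfsg.Agent.H608.BlockRank

variable {G : Type u} [Group G] [Finite G]

theorem cyc {p : ℕ} [Fact p.Prime] (P : Sylow p G) (hc : IsCyclic P) (hd : p ∣ Nat.card G)
    (hdeg : ∃ χ : G → ℂ, IsIrrCharacter G χ ∧ p ∣ charDegree χ) :
    ∃ e x : ℕ, e * x = p - 1 ∧ e + 1 ≤ Cfsg.Agent.H697.Alm.kreg p G ∧
      x ≤ Nat.card {c : ConjClasses G // ∃ g : G, ConjClasses.mk g = c ∧ orderOf g = p} := by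
  classical
  have hp : p.Prime := Fact.out
  have := Fintype.ofFinite G
  obtain ⟨M, hM⟩ := Cfsg.Agent.Blocks.Knorr.exists_isPModular p
  have hMp := Cfsg.Agent.Blocks.Local.isPrime_of_isPModular hM
  obtain ⟨a, ha⟩ := IsPGroup.iff_card.mp P.2
  have ha1 : 1 ≤ a := by
    rcases Nat.eq_zero_or_pos a with h | h
    · exfalso
      have := P.pow_dvd_card_of_pow_dvd_card (n := 1) (by rwa [pow_one])
      rw [ha, h, pow_one, pow_zero] at this
      exact hp.one_lt.ne' (Nat.dvd_one.1 this)
    · exact h
  have hPC : (P : Subgroup G) ≤ centralizer ((P : Subgroup G) : Set G) := fun x hx =>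
    mem_centralizer_iff.2 fun y hy =>
      congrArg Subtype.val ((IsCyclic.commGroup (α := (P : Subgroup G))).mul_comm ⟨y, hy⟩ ⟨x, hx⟩)
  have hB : IsPBlock M (principalBlock M G) := Blocks.PrincipalSection.isPBlock_principalBlock
  have hBD : IsDefectGroup p M (principalBlock M G) (P : Subgroup G) := (S4652.result p M hM _).2 ⟨P, rfl⟩
  have hb : IsPBlock M (principalBlock M (centralizer ((P : Subgroup G) : Set G))) :=
    Blocks.PrincipalSection.isPBlock_principalBlock
  have hdef : InducedBlockDefined M (centralizer ((P : Subgroup G) : Set G))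
      (principalBlock M (centralizer ((P : Subgroup G) : Set G))) :=
    S0919.result p M hM (P : Subgroup G) _ P.2 hPC le_rfl (centralizer_le_normalizer _) _ hb
  have hind : IsInducedBlock M (centralizer ((P : Subgroup G) : Set G))
      (principalBlock M (centralizer ((P : Subgroup G) : Set G))) (principalBlock M G) :=
    (S0936.result p M hM _ _ hdef).2 rfl
  have hT : ∀ g : G, g ∈ normalizer ((P : Subgroup G) : Set G) ↔
      (g ∈ normalizer ((P : Subgroup G) : Set G) ∧
        ∀ θ ∈ principalBlock M (centralizer ((P : Subgroup G) : Set G)),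
          ∀ θ' : IrrCharacter (centralizer ((P : Subgroup G) : Set G)),
            (∀ h h' : centralizer ((P : Subgroup G) : Set G), (h' : G) = g * h * g⁻¹ →
              (θ' : centralizer ((P : Subgroup G) : Set G) → ℂ) h' =
                (θ : centralizer ((P : Subgroup G) : Set G) → ℂ) h) →
            θ' ∈ principalBlock M (centralizer ((P : Subgroup G) : Set G))) := by
    intro g
    refine ⟨fun hg => ⟨hg, fun θ hθ θ' h => ?_⟩, fun h => h.1⟩
    have hmem : ∀ g : G, g ∈ normalizer ((P : Subgroup G) : Set G) →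
        ∀ c ∈ centralizer ((P : Subgroup G) : Set G), g * c * g⁻¹ ∈ centralizer ((P : Subgroup G) : Set G) := by
      intro g hg c hc
      rw [mem_centralizer_iff] at hc ⊢
      intro x hx
      have h1 : g⁻¹ * x * g ∈ (P : Subgroup G) := by
        have := (mem_normalizer_iff.1 (inv_mem hg) x).1 hx
        rwa [inv_inv] at this
      have h2 := hc _ h1
      calc x * (g * c * g⁻¹) = g * ((g⁻¹ * x * g) * c) * g⁻¹ := by group
        _ = g * (c * (g⁻¹ * x * g)) * g⁻¹ := by rw [h2]
        _ = g * c * g⁻¹ * x := by group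
    let φ : centralizer ((P : Subgroup G) : Set G) ≃* centralizer ((P : Subgroup G) : Set G) :=
      { toFun := fun c => ⟨g * c * g⁻¹, hmem g hg c c.2⟩
        invFun := fun c => ⟨g⁻¹ * c * (g⁻¹)⁻¹, hmem g⁻¹ (inv_mem hg) c c.2⟩
        left_inv := fun c => Subtype.ext (by change g⁻¹ * (g * c * g⁻¹) * (g⁻¹)⁻¹ = c; group)
        right_inv := fun c => Subtype.ext (by change g * (g⁻¹ * c * (g⁻¹)⁻¹) * g⁻¹ = c; group)
        map_mul' := fun c d => Subtype.ext (by
          change g * (c * d) * g⁻¹ = (g * c * g⁻¹) * (g * d * g⁻¹); group) }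
    exact mem_principal_of_equiv φ hθ fun c => h c (φ c) rfl
  set e := (centralizer ((P : Subgroup G) : Set G)).relIndex (normalizer ((P : Subgroup G) : Set G)) with he
  have hrank : blockRank p (principalBlock M G) = e :=
    S4695.result p M hM (P : Subgroup G) hc a ha1 ha (principalBlock M G) hB hBD _ hind
      (normalizer ((P : Subgroup G) : Set G)) hT e he.symm
  obtain ⟨hep, hht, -⟩ := S4696.result p M hM (P : Subgroup G) hc a ha1 ha (principalBlock M G) hB hBD _ hind
      (normalizer ((P : Subgroup G) : Set G)) hT e he.symm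
  obtain ⟨x, hx⟩ := hep
  have he0 : 0 < e := Nat.pos_of_ne_zero fun h => by
    rw [h, zero_mul] at hx
    have := hp.two_le
    omega
  refine ⟨e, x, hx.symm, ?_, ?_⟩
  · obtain ⟨χ, hχ, hχp⟩ := hdeg
    let X : IrrCharacter G := ⟨χ, hχ⟩
    have hXB : X ∉ principalBlock M G := by
      intro hX
      have h1 := hht X hX
      have h1B := Cfsg.Agent.Blocks.PrincipalSection.one_mem_principalBlock (K := G) (M := M)
      have h2 : sInf ((fun ψ : IrrCharacter G => (charDegree (ψ : G → ℂ)).factorization p) ''
          principalBlock M G) = 0 := by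
        refine Nat.le_zero.1 (Nat.sInf_le ⟨_, h1B, ?_⟩)
        have h3 : charDegree (((⟨fun _ => 1, Cfsg.Agent.Blocks.Basic.isIrrCharacter_one⟩ :
            IrrCharacter G)) : G → ℂ) = 1 := by
          obtain ⟨h4, -, -⟩ := S0914.degree_spec (⟨fun _ => 1, Cfsg.Agent.Blocks.Basic.isIrrCharacter_one⟩ :
            IrrCharacter G)
          have h7 : ((charDegree (((⟨fun _ => 1, Cfsg.Agent.Blocks.Basic.isIrrCharacter_one⟩ :
            IrrCharacter G)) : G → ℂ) : ℕ) : ℂ) = 1 := h4.symm
          exact_mod_cast h7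
        change (charDegree (((⟨fun _ => 1, Cfsg.Agent.Blocks.Basic.isIrrCharacter_one⟩ :
            IrrCharacter G)) : G → ℂ)).factorization p = 0
        rw [h3, Nat.factorization_one]
        rfl
      unfold blockHeight at h1
      rw [h2, Nat.sub_zero] at h1
      obtain ⟨-, h5, -⟩ := S0914.degree_spec X
      have h6 := (hp.dvd_iff_one_le_factorization h5.ne').1 hχp
      omega
    have hblk : IsPBlock M (blockOf M (X : G → ℂ)) := ⟨X, rfl⟩
    have hXX : X ∈ blockOf M (X : G → ℂ) := Blocks.Basic.sameBlock_refl _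
    have hdisj : Disjoint (principalBlock M G) (blockOf M (X : G → ℂ)) := by
      rw [Set.disjoint_left]
      intro ψ h1 h2
      have h3 := Cfsg.Agent.Blocks.Basic.isPBlock_eq_of_mem hB hblk h1 h2
      rw [h3] at hXB
      exact hXB hXX
    have h1 := blockRank_union hM (isUnion_of_isPBlock hB) (isUnion_of_isPBlock hblk) hdisj
    have h2 := H970.CycOne.blockRank_mono p (Set.subset_univ (principalBlock M G ∪ blockOf M (X : G → ℂ)))
    have h3 := H970.CycOne.blockRank_pos p hXX
    have h4 := H970.CycOne.blockRank_univ_le (G := G) p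
    change e + 1 ≤ Nat.card {c : ConjClasses G // ∃ g : G, ConjClasses.mk g = c ∧ ¬ p ∣ orderOf g}
    omega
  · have h1 := card_le_mul P hc hd
    rw [hx] at h1
    exact Nat.le_of_mul_le_mul_left h1 he0

end main

end Cfsg.Agent.H736.S4790
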